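import Cfsg.Agent.H696.PSq.Defs

/-!
# S4844, team PSQ: the weaker fact on simple groups (idea of helper189 and helper710)

If `|S|_p = p ^ 2` and the centralizer of every element of order `p` has an even number of Sylow `p`-subgroups, then
a degree of `S` divisible by `p ^ 2` is not needed.
-/

set_option autoImplicit false

namespace Cfsg.Agent.H696.PSq

open Cfsg Subgroup

universe u v

/-- `|S|_p = p ^ 2`, `p` odd, `p` does not divide `|Out S|` and the centralizer of every element of order `p` has an
even number of Sylow `p`-subgroups. -/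
structure EvenC (p : ℕ) (S : Type u) [Group S] : Prop where
  odd : p ≠ 2
  sq : p ^ 2 ∣ Nat.card S
  cube : ¬ p ^ 3 ∣ Nat.card S
  out : ¬ p ∣ Nat.card (Cfsg.Out S)
  even : ∀ x : S, orderOf x = p → Even (Nat.card (Sylow p (centralizer ({x} : Set S))))

/-- A simple group of order divisible by `p ^ 2` has a degree divisible by `p ^ 2`, except `A₇`, `p ≤ 3`, and groups
with `EvenC`. -/
def FactSqE (p : ℕ) : Prop := ∀ (S : Type u) [Group S] [Finite S] [IsSimpleGroup S],
  ¬ IsMulCommutative S → p ^ 2 ∣ Nat.card S →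
    H33.IM (p ^ 2) S ∨ (p ≤ 3 ∧ Nonempty (S ≃* alternatingGroup (Fin 7))) ∨ EvenC p S

theorem FactSq.toE {p : ℕ} (h : FactSq.{u} p) : FactSqE.{u} p := by
  intro S _ _ _ hna hd
  rcases h S hna hd with h1 | h1
  · exact Or.inl h1
  · exact Or.inr (Or.inl h1)

end Cfsg.Agent.H696.PSq
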