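import Cfsg.Agent.H33.IM
import Cfsg.Prelude.Def_KGroupFacts
import Mathlib.GroupTheory.SpecificGroups.Alternating

/-!
# S4844, team PSQ (helper696): no character degree divisible by `p ^ 2`

Definitions and interface. Plan: `tools/plans/S4844.md`.
-/

set_option autoImplicit false

namespace Cfsg.Agent.H696.PSq

open Cfsg Subgroup

universe u v

/-- No irreducible character degree of `G` is divisible by `p ^ 2`. -/
def Hyp (p : ℕ) (G : Type u) [Group G] : Prop := ¬ H33.IM (p ^ 2) G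

/-- The exceptional structure (`p = 2`). -/
def Exc (G : Type u) [Group G] : Prop :=
  ∃ A L : Subgroup G, A.Normal ∧ L.Normal ∧ A ⊓ L = ⊥ ∧ A ⊔ L = ⊤ ∧
    Nonempty (A ≃* alternatingGroup (Fin 7)) ∧
    ∃ Q : Sylow 2 L, (Q : Subgroup L).Normal ∧ IsMulCommutative (Q : Subgroup L)

/-! ## Facts on simple groups -/

/-- Itô-Michler. -/
def FactIM (p : ℕ) : Prop := ∀ (G : Type u) [Group G] [Finite G], ¬ H33.IM p G →
  ∀ P : Sylow p G, (P : Subgroup G).Normal ∧ IsMulCommutative (P : Subgroup G)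

/-- A simple group of order divisible by `p ^ 2` has a degree divisible by `p ^ 2`, except `A₇`, `p ≤ 3`. -/
def FactSq (p : ℕ) : Prop := ∀ (S : Type u) [Group S] [Finite S] [IsSimpleGroup S],
  ¬ IsMulCommutative S → p ^ 2 ∣ Nat.card S →
    H33.IM (p ^ 2) S ∨ (p ≤ 3 ∧ Nonempty (S ≃* alternatingGroup (Fin 7)))

/-- Sylow `p`-subgroup of order `p` : `p` does not divide the order of the outer automorphism group. -/
def FactOut (p : ℕ) : Prop := ∀ (S : Type u) [Group S] [Finite S] [IsSimpleGroup S],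
  ¬ IsMulCommutative S → p ∣ Nat.card S → ¬ p ^ 2 ∣ Nat.card S → ¬ p ∣ Nat.card (Cfsg.Out S)

/-! ## The situation of a minimal counterexample -/

/-- `V` is a minimal normal subgroup of order prime to `p`, `O_p(G) = 1`, `|O_p(G/V)| = p`, `|G|_p = p ^ 3`. -/
structure Sit (p : ℕ) {G : Type u} [Group G] (V : Subgroup G) : Prop where
  normal : V.Normal
  hyp : Hyp p G
  core : pCore p G = ⊥
  ne : V ≠ ⊥
  min : ∀ N : Subgroup G, N.Normal → N ≤ V → N = ⊥ ∨ N = V
  cop : ¬ p ∣ Nat.card V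
  coreV : ∃ U : Subgroup G, U.Normal ∧ V ≤ U ∧ Nat.card U = p * Nat.card V ∧
    ∀ N : Subgroup G, N.Normal → V ≤ N → (∃ k, Nat.card N = p ^ k * Nat.card V) → N ≤ U
  three : (Nat.card G).factorization p = 3

/-! ## The partition of the dual module -/

section part

variable (p : ℕ) {C : Type u} [Group C] (W : Type v) [CommGroup W] [MulDistribMulAction C W]

/-- The situation after Clifford theory: every `l ≠ 1` of the dual module `W` has a stabilizer with a normal
abelian Sylow `p`-subgroup of order `p ^ 2`. -/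
structure PartHyp (A : Subgroup C) : Prop where
  central : A ≤ center C
  cardA : Nat.card A = p
  three : (Nat.card C).factorization p = 3
  cop : ¬ p ∣ Nat.card W
  nontriv : Nontrivial W
  faith : ∀ x : C, orderOf x = p → ∃ l : W, x • l ≠ l
  stab : ∀ l : W, l ≠ 1 → ∃ R : Subgroup C, Nat.card R = p ^ 2 ∧ IsMulCommutative R ∧ R ⊓ A = ⊥ ∧
    (∀ x ∈ R, x • l = l) ∧ ∀ x : C, (∃ k, orderOf x = p ^ k) → x • l = l → x ∈ R

variable {W}

/-- Points: the subgroups of order `p ^ 2` of `P` which meet `A` trivially. -/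
abbrev Pt (P A : Subgroup C) : Type u := {R : Subgroup C // R ≤ P ∧ Nat.card R = p ^ 2 ∧ R ⊓ A = ⊥}

/-- Directions: the subgroups of order `p ^ 2` of `P` which contain `A`. -/
abbrev Dir (P A : Subgroup C) : Type u := {X : Subgroup C // X ≤ P ∧ Nat.card X = p ^ 2 ∧ A ≤ X}

variable (W) in
/-- The order of the fixed space of `R`. -/
noncomputable def wt (R : Subgroup C) : ℕ := Nat.card {l : W // ∀ x ∈ R, x • l = l}

/-- The number of Sylow `p`-subgroups which contain `X`. -/
noncomputable def cX (X : Subgroup C) : ℕ := Nat.card (Sylow p (centralizer (X : Set C)))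

variable (W) in
open Classical in
/-- The equations. Two points `R`, `R'` are on the same line of direction `X` iff `R ⊓ X = R' ⊓ X`. -/
structure Eqs [Finite C] (A P : Subgroup C) : Prop where
  comm : IsMulCommutative P
  exp : ∀ x ∈ P, x ^ p = 1
  cardDir : Nat.card (Dir p P A) = p + 1
  cardPt : Nat.card (Pt p P A) = p ^ 2
  rel : ∀ R R' : Pt p P A, R ≠ R' → ∃! X : Dir p P A, (R : Subgroup C) ⊓ X = (R' : Subgroup C) ⊓ X
  wt_or : ∀ R : Pt p P A, wt W (R : Subgroup C) = 1 ∨ p + 1 ≤ wt W (R : Subgroup C)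
  total : ∏ᶠ R : Pt p P A, wt W (R : Subgroup C) =
    1 + Nat.card (Sylow p C) * ∑ᶠ R : Pt p P A, (wt W (R : Subgroup C) - 1)
  line : ∀ (X : Dir p P A) (R₀ : Pt p P A),
    ∏ᶠ R : Pt p P A, (if (R : Subgroup C) ⊓ X = (R₀ : Subgroup C) ⊓ X then wt W (R : Subgroup C) else 1) =
      1 + cX p (X : Subgroup C) *
        ∑ᶠ R : Pt p P A, (if (R : Subgroup C) ⊓ X = (R₀ : Subgroup C) ⊓ X then wt W (R : Subgroup C) - 1 else 0)
  noncol : ∀ (X : Dir p P A) (R₀ : Pt p P A), ∃ R : Pt p P A, wt W (R : Subgroup C) ≠ 1 ∧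
    (R : Subgroup C) ⊓ X ≠ (R₀ : Subgroup C) ⊓ X

end part

end Cfsg.Agent.H696.PSq
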