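import Cfsg.Agent.H696.PSq.DefsE
import Cfsg.Prelude.Def_Classification2

/-!
# S4844, team PSQ: assembly of the rows (helper696)
-/

set_option autoImplicit false

namespace Cfsg.Agent.H696.PSq

open Cfsg Subgroup

universe u v

/-- A row -/
def RowE (p : ℕ) (P : (S : Type u) → [Group S] → Prop) : Prop :=
  ∀ (S : Type u) [Group S] [Finite S], IsSimpleGroup S → P S → p ^ 2 ∣ Nat.card S → H33.IM (p ^ 2) S ∨ EvenC p S

theorem factSqE_of {p : ℕ}
    (hcl : ∀ (S : Type u) [Group S] [Finite S] [IsSimpleGroup S], IsKnownSimple' S)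
    (halt : ∀ (S : Type u) [Group S] [Finite S], IsSimpleGroup S → IsAlternating S → p ^ 2 ∣ Nat.card S →
      H33.IM (p ^ 2) S ∨ (p ≤ 3 ∧ Nonempty (S ≃* alternatingGroup (Fin 7))))
    (psl : RowE.{u} p fun S _ => IsPSL S) (psp : RowE.{u} p fun S _ => IsPSp S)
    (psu : RowE.{u} p fun S _ => IsPSU S) (oodd : RowE.{u} p fun S _ => IsPOmegaOdd S)
    (oplus : RowE.{u} p fun S _ => IsPOmegaPlus S) (ominus : RowE.{u} p fun S _ => IsPOmegaMinus S)
    (exc : RowE.{u} p fun S _ => IsExceptionalLieType S) (spor : RowE.{u} p fun S _ => IsSporadicGroup S) :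
    FactSqE.{u} p := by
  intro S _ _ hs hna hd
  have key : H33.IM (p ^ 2) S ∨ EvenC p S →
      H33.IM (p ^ 2) S ∨ (p ≤ 3 ∧ Nonempty (S ≃* alternatingGroup (Fin 7))) ∨ EvenC p S := by
    rintro (h | h)
    · exact Or.inl h
    · exact Or.inr (Or.inr h)
  rcases hcl S with h | h | h | h | h | h | h | h | h | h
  · refine absurd ?_ hna
    have h' : (Nat.card S).Prime := h
    have : Fact (Nat.card S).Prime := ⟨h'⟩
    have hc : IsCyclic S := isCyclic_of_prime_card rfl
    obtain ⟨g, hg⟩ := hc.exists_generator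
    refine ⟨⟨fun a b => ?_⟩⟩
    obtain ⟨i, rfl⟩ := mem_zpowers_iff.1 (hg a)
    obtain ⟨j, rfl⟩ := mem_zpowers_iff.1 (hg b)
    rw [← zpow_add, ← zpow_add, add_comm]
  · rcases halt S hs h hd with h1 | h1
    · exact Or.inl h1
    · exact Or.inr (Or.inl h1)
  · exact key (psl S hs h hd)
  · exact key (psp S hs h hd)
  · exact key (psu S hs h hd)
  · exact key (oodd S hs h hd)
  · exact key (oplus S hs h hd)
  · exact key (ominus S hs h hd)
  · exact key (exc S hs h hd)
  · exact key (spor S hs h hd)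

end Cfsg.Agent.H696.PSq
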