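import Cfsg.Agent.H696.PSq.FactE
import Cfsg.Agent.H690.AltSq
import Cfsg.Agent.H652.Four.Main
import Cfsg.Agent.H267.PSq.OutMain
import Cfsg.Agent.S4760

/-!
# S4844: the facts on simple groups, without the rows (helper696)
-/

set_option autoImplicit false

namespace Cfsg.Agent.H696.PSq

open Cfsg Subgroup

universe u v

/-- Itô-Michler. -/
theorem factIM (p : ℕ) [Fact p.Prime] : FactIM.{u} p := by
  intro G _ _ h P
  exact (S4760.result p P).2 (H33.not_IM_iff.1 h)

/-- The alternating groups. -/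
theorem alt_row {p : ℕ} [hp : Fact p.Prime] (hp2 : p ≠ 2) (S : Type u) [Group S] [Finite S] (_hs : IsSimpleGroup S)
    (h : IsAlternating S) (hd : p ^ 2 ∣ Nat.card S) :
    H33.IM (p ^ 2) S ∨ (p ≤ 3 ∧ Nonempty (S ≃* alternatingGroup (Fin 7))) := by
  obtain ⟨n, hn, ⟨e⟩⟩ := h
  by_cases h7 : p = 3 ∧ n = 7
  · obtain ⟨rfl, rfl⟩ := h7
    exact Or.inr ⟨le_rfl, ⟨e⟩⟩
  · left
    rw [Nat.card_congr e.toEquiv] at hd
    exact H33.IM.of_equiv e (H690.AltSq.sq_alt hn hp2 hd h7)

theorem factSqE_two : FactSqE.{u} 2 := by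
  intro S _ _ hs hna _
  rcases H652.Four.four_or_seven hs S0000.result hna with h | h
  · left
    exact h
  · exact Or.inr (Or.inl ⟨by norm_num, h⟩)

theorem factOut (p : ℕ) [hp : Fact p.Prime] : FactOut.{u} p := by
  by_cases hp2 : p = 2
  · subst hp2
    intro S _ _ hs hna _ h4
    exfalso
    rcases H652.Four.four_or_seven hs S0000.result hna with h | ⟨⟨e⟩⟩
    · exact h4 (H33.IM.dvd_card h)
    · rw [Nat.card_congr e.toEquiv, H680.Red5009.card_A7] at h4
      norm_num at h4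
  · exact H267.PSq.Out.factOut hp2

/-- The odd primes. -/
theorem factSqE_odd {p : ℕ} [hp : Fact p.Prime] (hp2 : p ≠ 2)
    (psl : RowE.{u} p fun S _ => IsPSL S) (psp : RowE.{u} p fun S _ => IsPSp S)
    (psu : RowE.{u} p fun S _ => IsPSU S) (oodd : RowE.{u} p fun S _ => IsPOmegaOdd S)
    (oplus : RowE.{u} p fun S _ => IsPOmegaPlus S) (ominus : RowE.{u} p fun S _ => IsPOmegaMinus S)
    (exc : RowE.{u} p fun S _ => IsExceptionalLieType S) (spor : RowE.{u} p fun S _ => IsSporadicGroup S) :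
    FactSqE.{u} p :=
  factSqE_of (fun S _ _ _ => S0000.result (G := S)) (fun S _ _ => alt_row hp2 S) psl psp psu oodd oplus ominus exc spor

end Cfsg.Agent.H696.PSq
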