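import Cfsg.Agent.H696.PSq.Red
import Cfsg.Agent.H696.PSq.Facts
import Cfsg.Agent.H710.PSq.SporFinal
import Cfsg.Agent.H690.SqLieOf
import Cfsg.Agent.H279.Sq.Main
import Cfsg.Agent.H113.Cusp.Psu
import Cfsg.Agent.H311.SQ.Three
import Cfsg.Agent.H628.Sq.TwFMain
import Cfsg.Agent.H811.PSq.TwFFam

/-!
# S4844: the theorem (helper696, team PSQ)
-/

set_option autoImplicit false

namespace Cfsg.Agent.H696.PSq

open Cfsg Subgroup

universe u v

/-- The rows of Lie type. -/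
theorem lieRow {S : Type u} [Group S] [Finite S] (hs : IsSimpleGroup S)
    (h : IsPSL S ∨ IsPSp S ∨ IsPSU S ∨ IsPOmegaOdd S ∨ IsPOmegaPlus S ∨ IsPOmegaMinus S ∨ IsExceptionalLieType S)
    {p : ℕ} [hp : Fact p.Prime] (hp2 : p ≠ 2) (hd : p ^ 2 ∣ Nat.card S) : H33.IM (p ^ 2) S ∨ EvenC p S := by
  refine H690.SqLie.sq_lie_of ?_ ?_ hs h hp2 hd
  · intro S _ _ h hs p _ hp2 hd
    refine Or.inl (H279.Sq.sq_psu_of H311.SQ.hyp_three ?_ h hs hp2 hd)
    intro F _ _ n q p hF hn hp hp2 hpq _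
    exact H113.Cusp.Torus.hyp_four hF hn hp hp2 hpq
  · intro S _ _ h hs p _ hp2 hd
    refine Or.inl (H628.Sq.TwFMain.sq_tf_of_fam ?_ h hp2 hd)
    intro K _ _ m hm hK _
    exact H811.PSq.TwF.exists_family_tf4 hm hK

theorem factSqE (p : ℕ) [hp : Fact p.Prime] : FactSqE.{u} p := by
  by_cases hp2 : p = 2
  · subst hp2
    exact factSqE_two
  · exact factSqE_odd hp2
      (fun S _ _ hs h hd => lieRow hs (Or.inl h) hp2 hd)
      (fun S _ _ hs h hd => lieRow hs (Or.inr (Or.inl h)) hp2 hd)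
      (fun S _ _ hs h hd => lieRow hs (Or.inr (Or.inr (Or.inl h))) hp2 hd)
      (fun S _ _ hs h hd => lieRow hs (Or.inr (Or.inr (Or.inr (Or.inl h)))) hp2 hd)
      (fun S _ _ hs h hd => lieRow hs (Or.inr (Or.inr (Or.inr (Or.inr (Or.inl h))))) hp2 hd)
      (fun S _ _ hs h hd => lieRow hs (Or.inr (Or.inr (Or.inr (Or.inr (Or.inr (Or.inl h)))))) hp2 hd)
      (fun S _ _ hs h hd => lieRow hs (Or.inr (Or.inr (Or.inr (Or.inr (Or.inr (Or.inr h)))))) hp2 hd)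
      (fun S _ _ hs h hd => H710.PSq.sq_spor h hs hp2 hd)

/-- **S4844** -/
theorem main {G : Type u} [Group G] [Finite G] (p : ℕ) [Fact p.Prime]
    (hdeg : ∀ χ : Cfsg.IrrCharacter G, ¬ p ^ 2 ∣ Cfsg.charDegree (χ : G → ℂ)) :
    (Nat.card (G ⧸ Cfsg.pCore p G)).factorization p ≤ 2 ∨ (p = 2 ∧ Exc G) :=
  reduction (factIM p) (factSqE p) (factOut p) G (H33.not_IM_iff.2 hdeg)

end Cfsg.Agent.H696.PSq
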