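import Cfsg.Agent.H696.PSq.NoSit
import Cfsg.Agent.H812.PSq.Eqs
import Cfsg.Agent.H117.PSq.Seven
import Cfsg.Agent.H696.PSq.StructC
import Cfsg.Agent.H189.Psq.One
import Cfsg.Agent.S0205
import Cfsg.Agent.H52.PSq.Nonab
import Cfsg.Agent.H848.PSq.SevenTwo
import Cfsg.Agent.H681.Sev.Main
import Cfsg.Agent.H904.PSq.ExcLift
import Cfsg.Agent.H932.PS11.Final
import Cfsg.Agent.H510.Jump.Main

/-!
# S4844: the reduction with the landed pieces (helper696)
-/

set_option autoImplicit false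

namespace Cfsg.Agent.H696.PSq

open Cfsg Subgroup

universe u v

theorem jumpP (p : ℕ) [Fact p.Prime] : Jump.{u} p := by
  intro G _ _ hyp hcore V hV hmin hVp U hU hVU k hk
  exact H510.Jump.jump hyp hcore hmin hVp hVU hk

theorem eqsP (p : ℕ) [Fact p.Prime] : EqsP.{u} p := by
  intro C _ _ W _ _ _ A h P
  exact H812.PSq.eqs h P

theorem seven3P : Seven3.{u} := by
  intro C _ _ W _ _ _ A _ h P E N hN hPN f hf hk
  exact H117.PSq.seven3 h P E N hPN f hf hk

theorem excLiftP (hO : H904.PSq.SevenOdd.{u}) (hT : H904.PSq.SevenTwo.{u}) (hIM : FactIM.{u} 2) : ExcLift.{u} := by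
  intro G _ _ hyp V _ hV h
  exact H904.PSq.exc_lift_of (fun K _ _ hK V hV hV1 _ e => H932.PS11.seven_central hK hV hV1 e) hO hT hIM hyp hV h

theorem structP {p : ℕ} [Fact p.Prime] (hIM : FactIM.{u} p) (hSq : FactSqE.{u} p) (hOut : FactOut.{u} p) :
    StructP.{u} p := by
  intro C _ _ hyp A hA hAc P hPc hPe h3
  exact StructC.structE hIM hSq hOut hyp hA hAc P hPc hPe h3

theorem evenCaseP (p : ℕ) [Fact p.Prime] : EvenCase.{u} p := by
  intro C _ _ W _ _ _ A h P E N hN hPN S _ _ f hf hk hZ hS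
  exact H189.Psq.even_case h P E N hPN f hf hk hZ hS

theorem oddSolvP : OddSolv.{u} := fun _ _ _ h => S0205.result h

theorem sevenOddP : H904.PSq.SevenOdd.{u} := by
  intro K _ _ hK V _ hab hodd hmin hnc e
  exact H681.Sev.Main.seven_odd hK hab hodd hmin hnc e

theorem nonabP {p : ℕ} [Fact p.Prime] (hIM : FactIM.{u} p) (hp2 : p ≠ 2) : NonabCase.{u} p := by
  intro G _ _ V h hab
  exact H52.PSq.nonab_case hp2 hIM h hab

theorem sevenTwoP : H904.PSq.SevenTwo.{u} := by
  intro K _ _ hK V _ h2 hmin hnc e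
  exact H848.PSq.seven_two hK h2 hmin hnc e

/-- The reduction. -/
theorem reduction {p : ℕ} [hp : Fact p.Prime] (hIM : FactIM.{u} p) (hSq : FactSqE.{u} p) (hOut : FactOut.{u} p)
    (G : Type u) [Group G] [Finite G] (hyp : Hyp p G) :
    (Nat.card (G ⧸ pCore p G)).factorization p ≤ 2 ∨ (p = 2 ∧ Exc G) :=
  main_of hIM hSq hOut oddSolvP (jumpP p)
    (noSit_of hIM oddSolvP (eqsP p) (fun _ => seven3P) (evenCaseP p) (structP hIM hSq hOut) (nonabP hIM))
    (fun h => by subst h; exact excLiftP sevenOddP sevenTwoP hIM) (Nat.card G) G le_rfl hyp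

end Cfsg.Agent.H696.PSq
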